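import Groth.Agent.CurvesC.DualNodal
import Groth.Agent.CurvesC.DualEuler
import Groth.Agent.CurvesC.DualInvNonvan
import Groth.Agent.S1534
import Groth.Agent.Ega1.SuppTensorMod
import Groth.Agent.Ega3B.Devissage
import Groth.Agent.Ega3B.DevQC
import Groth.Agent.CohqB.DevSupport
import Groth.Agent.Flat2E.FormalLift418
import Groth.Agent.PerfB.TensExact
import Groth.Agent.Krr.H478.EpiIso
import Groth.Agent.FormalB.ModPow
import Groth.Agent.Grpsch.PicGrp
import Groth.Agent.Ega3B.PicTwist

/-!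
# Twists of the dualizing module of a curve by globally generated invertible modules

For a dual pair `(w, t)` with `h^1(w) = 1`, `w` of full support and `L` invertible, globally generated and not trivial:
`Hom(w ⊗ L, w) = 0`, so `H^1(X, w ⊗ L) = 0`.
-/

set_option autoImplicit false
set_option backward.isDefEq.respectTransparency false
universe u

open CategoryTheory CategoryTheory.Limits AlgebraicGeometry Opposite TopologicalSpace

namespace K817.DualGG

open Groth.Agent Groth.Agent.CurvesC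

section Pair

variable {k : Type u} [Field k] {X : Scheme.{u}} [X.Over (Spec (CommRingCat.of k))] {w : X.Modules}
  {t : HV X w 1 →ₗ[k] k}

/-- Endomorphisms of `w` are scalars when `h^1(w) = 1`. -/
theorem end_eq (h : IsDual w t) (hw : Coh.IsQCoh w) (h1 : Module.finrank k (HV X w 1) = 1) (φ : w ⟶ w) :
    ∃ c : k, φ = Formal.smulMod k w c := by
  have hid : h.homEquiv hw (𝟙 w) = t := by rw [h.homEquiv_apply, HV.map_id, LinearMap.comp_id]
  have hd : Module.finrank k (Module.Dual k (HV X w 1)) = 1 := by rw [Subspace.dual_finrank_eq, h1]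
  have ht : t ≠ 0 := by
    intro h0
    have h2 : ∀ ψ : Module.Dual k (HV X w 1), ψ = 0 := fun ψ => by
      obtain ⟨φ, hφ, -⟩ := h w hw ψ
      rw [← hφ, h0, LinearMap.zero_comp]
    have h3 : Subsingleton (Module.Dual k (HV X w 1)) := ⟨fun a b => (h2 a).trans (h2 b).symm⟩
    have h4 : Module.finrank k (Module.Dual k (HV X w 1)) = 0 := Module.finrank_zero_of_subsingleton
    rw [hd] at h4
    exact one_ne_zero h4
  obtain ⟨c, hc⟩ := (finrank_eq_one_iff_of_nonzero' (K := k) (V := Module.Dual k (HV X w 1)) t ht).1 hd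
    (h.homEquiv hw φ)
  refine ⟨c, (h.homEquiv hw).injective ?_⟩
  have h5 := h.homEquiv_smul hw c (𝟙 w)
  rw [Category.comp_id, hid] at h5
  rw [h5, ← hc]

theorem isIso_smulMod (M : X.Modules) {c : k} (hc : c ≠ 0) : IsIso (Formal.smulMod k M c) :=
  ⟨Formal.smulMod k M c⁻¹, by
    rw [← FormalB.ModPow.smulMod_mul, inv_mul_cancel₀ hc, FormalB.ModPow.smulMod_one], by
    rw [← FormalB.ModPow.smulMod_mul, mul_inv_cancel₀ hc, FormalB.ModPow.smulMod_one]⟩

end Pair

section Gen

variable {X : Scheme.{u}}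

/-- A nonzero map out of `L ⊗ w`, `L` globally generated, is nonzero on some `σ ⊗ w`. -/
theorem exists_sec_comp_ne_zero {L w G : X.Modules} (hgg : Curv2.IsGloballyGenerated L)
    (φ : (DCoh.tensorRightMod w).obj L ⟶ G) (hφ : φ ≠ 0) :
    ∃ σ : Coh.structureModule X ⟶ L, (DCoh.tensorRightMod w).map σ ≫ φ ≠ 0 := by
  by_contra hcon
  push Not at hcon
  obtain ⟨ι, p, hp⟩ := hgg
  apply hφ
  have h1 : (DCoh.tensorRightMod w).map p ≫ φ = 0 := by
    refine (isColimitOfPreserves (DCoh.tensorRightMod w)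
      (SheafOfModules.isColimitFreeCofan (R := X.ringCatSheaf) ι)).hom_ext fun j => ?_
    have h2 := hcon (SheafOfModules.ιFree j.as ≫ p)
    rw [Functor.map_comp, Category.assoc] at h2
    exact h2.trans comp_zero.symm
  have : Epi ((DCoh.tensorRightMod w).map p) := inferInstance
  rw [← cancel_epi ((DCoh.tensorRightMod w).map p), h1, comp_zero]

/-- Tensoring with a finite type module of full support detects zero. -/
theorem epi_of_isIso_tensor [IsLocallyNoetherian X] {L w : X.Modules} (hL : Coh.IsCoh L) (hw : Coh.IsCoh w)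
    (hsupp : ∀ x : X, x ∈ CohB1.support w) (σ : Coh.structureModule X ⟶ L)
    (h : Epi ((DCoh.tensorRightMod w).map σ)) : Epi σ := by
  have hO : Coh.IsCoh (Coh.structureModule X) := Ega3B.PicTwist.isCoh_of_isInvertible Fdesc.LocGen.isInvertible_structureModule
  have hC : Coh.IsCoh (cokernel σ) := Ega3B.DevQC.isCoh_cokernel σ hO.1 hL
  have h1 : (DCoh.tensorRightMod w).map (cokernel.π σ) = 0 := by
    rw [← cancel_epi ((DCoh.tensorRightMod w).map σ), ← Functor.map_comp, cokernel.condition, Functor.map_zero,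
      comp_zero]
  have h2 : Epi ((DCoh.tensorRightMod w).map (cokernel.π σ)) := inferInstance
  have h3 : IsZero ((DCoh.tensorRightMod w).obj (cokernel σ)) := by
    rw [h1] at h2
    exact IsZero.of_epi_eq_zero (0 : (DCoh.tensorRightMod w).obj L ⟶ _) rfl
  have h4 : CohB1.support (cokernel σ) = ∅ := by
    rw [Set.eq_empty_iff_forall_notMem]
    intro x hx
    have h5 : x ∈ CohB1.support (CohB1.tensorMod (cokernel σ) w) :=
      (Ega1.SuppTensorMod.mem_support_tensorMod (cokernel σ) w hC.2 hw.2 x).2 ⟨hx, hsupp x⟩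
    have h6 := CohqB.DevSupport.support_eq_empty_of_isZero h3
    change x ∈ CohB1.support ((DCoh.tensorRightMod w).obj (cokernel σ)) at h5
    rw [h6] at h5
    exact h5
  have h6 : IsZero (cokernel σ) := Ega3B.Devissage.isZero_of_support_eq_empty h4
  exact Preadditive.epi_of_isZero_cokernel σ h6

end Gen

section Main

variable {k : Type u} [Field k] {X : Scheme.{u}} [X.Over (Spec (CommRingCat.of k))] {w : X.Modules}
  {t : HV X w 1 →ₗ[k] k}

/-- `Hom(w ⊗ L, w) = 0` for `L` invertible, globally generated and nontrivial. -/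
theorem hom_eq_zero [IsLocallyNoetherian X] (h : IsDual w t) (hw : Coh.IsCoh w)
    (h1 : Module.finrank k (HV X w 1) = 1) (hsupp : ∀ x : X, x ∈ CohB1.support w) {L : X.Modules}
    (hL : PicF.IsInvertible L) (hgg : Curv2.IsGloballyGenerated L) (hnt : IsEmpty (L ≅ Coh.structureModule X))
    (φ : CohB1.tensorMod w L ⟶ w) : φ = 0 := by
  by_contra hφ
  obtain ⟨N, ⟨e⟩⟩ : ∃ N : X.Modules, Nonempty (CohB1.tensorMod N L ≅ Coh.structureModule X) := by
    have : IsIso (Grpsch.PicGrp.ev L) := Grpsch.PicGrp.isIso_ev hL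
    exact ⟨_, ⟨Ega2.Tens.swap _ _ ≪≫ asIso (Grpsch.PicGrp.ev L)⟩⟩
  have := Flat2E.FormalLift418.full_tw e
  have := Flat2E.FormalLift418.faithful_tw e
  let F := DCoh.tensorRightMod L
  let sw : F.obj w ≅ (DCoh.tensorRightMod w).obj L := Ega2.Tens.swap w L
  let φ' : (DCoh.tensorRightMod w).obj L ⟶ w := sw.inv ≫ φ
  have hφ' : φ' ≠ 0 := fun h0 => hφ (by
    have h2 : sw.hom ≫ φ' = φ := by simp [φ']
    rw [← h2, h0, comp_zero])
  obtain ⟨σ, hσ⟩ := exists_sec_comp_ne_zero hgg φ' hφ'
  let lu : (DCoh.tensorRightMod w).obj (Coh.structureModule X) ≅ w := Ega2.Tens.lunit w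
  let m : w ⟶ F.obj w := lu.inv ≫ (DCoh.tensorRightMod w).map σ ≫ sw.inv
  have ha0 : m ≫ φ ≠ 0 := fun h0 => hσ (by
    have h2 : lu.hom ≫ m ≫ φ = (DCoh.tensorRightMod w).map σ ≫ φ' := by simp [m, φ']
    rw [← h2, h0, comp_zero])
  obtain ⟨c, hc⟩ := end_eq h hw.1 h1 (m ≫ φ)
  have hc0 : c ≠ 0 := by
    rintro rfl
    rw [FormalB.ModPow.smulMod_zero] at hc
    exact ha0 hc
  have hiso : IsIso (m ≫ φ) := by
    rw [hc]
    exact isIso_smulMod w hc0
  let r : F.obj w ⟶ w := φ ≫ inv (m ≫ φ)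
  have hmr : m ≫ r = 𝟙 w := by rw [← Category.assoc, IsIso.hom_inv_id]
  obtain ⟨e₀, he₀⟩ := F.map_surjective (r ≫ m)
  have hid : e₀ ≫ e₀ = e₀ := F.map_injective (by
    rw [F.map_comp, he₀, Category.assoc, ← Category.assoc m, hmr, Category.id_comp])
  obtain ⟨c', hc'⟩ := end_eq h hw.1 h1 e₀
  by_cases h0 : c' = 0
  · have h2 : r ≫ m = 0 := by rw [← he₀, hc', h0, FormalB.ModPow.smulMod_zero, F.map_zero]
    apply ha0
    rw [← Category.id_comp (m ≫ φ), ← hmr, Category.assoc, ← Category.assoc r, h2, zero_comp, comp_zero]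
  · have hi : IsIso e₀ := by
      rw [hc']
      exact isIso_smulMod w h0
    have h3 : e₀ = 𝟙 w := by rw [← cancel_epi e₀, hid, Category.comp_id]
    have h4 : r ≫ m = 𝟙 _ := by rw [← he₀, h3, F.map_id]
    have hm : IsIso m := ⟨r, hmr, h4⟩
    have h5 : IsIso ((DCoh.tensorRightMod w).map σ) := by
      have h6 : (DCoh.tensorRightMod w).map σ = lu.hom ≫ m ≫ sw.hom := by simp [m]
      rw [h6]
      infer_instance
    have h6 : Epi σ := epi_of_isIso_tensor (Ega3B.PicTwist.isCoh_of_isInvertible hL) hw hsupp σ inferInstance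
    have h7 : IsIso σ := Krr.H478.EpiIso.isIso_of_epi (n := 1) σ
      (Ega2.QCohLocal.isFinLocFreeOfRank_one_iff.2 Fdesc.LocGen.isInvertible_structureModule)
      (Ega2.QCohLocal.isFinLocFreeOfRank_one_iff.2 hL)
    exact hnt.false (asIso σ).symm

/-- No maps to `w`: no first cohomology. -/
theorem subsingleton_of_forall (h : IsDual w t) {F : X.Modules} (hF : Coh.IsQCoh F)
    (h0 : ∀ φ : F ⟶ w, φ = 0) : Subsingleton (HV X F 1) := by
  refine subsingleton_of_forall_eq 0 fun c => (Module.forall_dual_apply_eq_zero_iff k c).1 fun ψ => ?_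
  obtain ⟨φ, hφ, -⟩ := h F hF ψ
  rw [← hφ, h0 φ, HV.map_zero, LinearMap.comp_zero, LinearMap.zero_apply]

/-- Full support of the dualizing module. -/
theorem mem_support [IsProper (X ↘ Spec (CommRingCat.of k))]
    (hequi : ∀ Z ∈ irreducibleComponents (X : Type u), topologicalKrullDim Z = 1)
    (h : IsDual w t) (hw : Coh.IsCoh w) (x : X) : x ∈ CohB1.support w := by
  by_contra hx
  have hcl := Ega3B.Devissage.isClosed_support hw
  obtain ⟨D', hD', s, hs⟩ := DualInvNonvan.exists_section_ne_zero hequi h hw.1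
    ⟨(CohB1.support w)ᶜ, hcl.isOpen_compl⟩ ⟨x, hx⟩
  apply hs
  refine TopCat.Presheaf.section_ext ⟨w.presheaf, w.isSheaf⟩ D' s 0 fun y hy => ?_
  have : Subsingleton (w.presheaf.stalk y) := by
    have h2 : y ∉ CohB1.support w := hD' hy
    simpa [CohB1.support] using h2
  exact Subsingleton.elim _ _

end Main

end K817.DualGG
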