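import Groth.Agent.Curves.K817.DualVA
import Groth.Agent.Variety.K420.IntCoeff
import Groth.Agent.CurvesC.DualSetup
import Groth.Agent.CurvesB.CurveRR
import Groth.Agent.CohqB.SerLocal

/-!
# Dimension counts for twists of the dualizing module of a curve

* `euler_inv`: `χ(N) = 2 χ(O) - χ(L)` for `N` inverse to `L`, in dimension `≤ 1`.
* `h0_twist`: `h^0(w ⊗ L) = h^1(N)` for `(w, t)` a dual pair and `N` inverse to `L`.
* `h0_lt`: `h^0(w) < h^0(L ⊗ w)` if `deg L ≥ 2` and `h^0(O) = 1`.
-/

set_option autoImplicit false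
set_option backward.isDefEq.respectTransparency false
universe u

open CategoryTheory CategoryTheory.Limits AlgebraicGeometry Opposite TopologicalSpace

namespace K817.DualRR

open Groth.Agent Groth.Agent.CurvesC Groth.Agent.Fdesc Groth.Agent.Fdesc.LocGen Groth.Agent.Fga.PicMon
open Groth.Agent.CurvesC.DualCount

section Euler

theorem eval_add_neg {P : MvPolynomial (Fin 1) ℚ} (hP : P.totalDegree ≤ 1) (x : ℚ) :
    MvPolynomial.eval (fun _ => x) P + MvPolynomial.eval (fun _ => -x) P = 2 * MvPolynomial.eval (fun _ => 0) P := by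
  rw [MvPolynomial.eval_eq', MvPolynomial.eval_eq', MvPolynomial.eval_eq', ← Finset.sum_add_distrib, Finset.mul_sum]
  refine Finset.sum_congr rfl fun m hm => ?_
  have h1 : m 0 ≤ 1 := by
    have h2 := (MvPolynomial.le_totalDegree hm).trans hP
    rw [Finsupp.sum_fintype _ _ (fun _ => rfl)] at h2
    simpa using h2
  simp only [Finset.univ_unique, Fin.default_eq_zero, Finset.prod_singleton, Fin.isValue]
  interval_cases m 0 <;> ring

variable (k : Type u) [Field k] {X : Scheme.{u}} [X.Over (Spec (CommRingCat.of k))]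
  [IsProper (X ↘ Spec (CommRingCat.of k))]

theorem euler_inv (hdim : topologicalKrullDim X ≤ 1) {L N : X.Modules} (hL : PicF.IsInvertible L)
    (hN : PicF.IsInvertible N) (e : Nonempty (CohB1.tensorMod N L ≅ Coh.structureModule X)) :
    Curv2.euler k X N = 2 * Curv2.euler k X (Coh.structureModule X) - Curv2.euler k X L := by
  have hNoe : IsNoetherian X := CurveCoh.noetherianSpace k X
  have hO : Coh.IsCoh (Coh.structureModule X) := Ega3B.PicTwist.isCoh_of_isInvertible isInvertible_structureModule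
  have hsupp : topologicalKrullDim (CohB1.support (Coh.structureModule X)) ≤ (1 : ℕ) := by
    refine le_trans ?_ (by exact_mod_cast hdim)
    exact topologicalKrullDim_subspace_le _ _
  obtain ⟨P, hP, hP'⟩ := Groth.Agent.S1528.result k X (Coh.structureModule X) hO 1 hsupp 1 (fun _ => L) (fun _ => hL)
  have hmc : mc L * mc N = 1 := by
    obtain ⟨e⟩ := e
    rw [mul_comm, ← mc_tensor, mc_eq e, mc_one]
  have h1 := K420.IntCoeff.eval_neg k hO (fun _ => hL) (fun _ => hN) (fun _ => hmc) hP' (fun _ => 1)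
  have h2 := hP' (fun _ => 1)
  have h3 := hP' (fun _ => 0)
  rw [K420.IntCoeff.euler_tensorPows] at h2 h3
  have h4 : ∀ M : X.Modules, K420.IntCoeff.eulerCl k (Coh.structureModule X) (mc M) = Curv2.euler k X M := fun M => by
    rw [K420.IntCoeff.eulerCl_mc]
    exact K420.IntCoeff.euler_congr k (Ega2.Tens.runit M)
  simp only [Finset.univ_unique, Finset.prod_singleton, pow_one, pow_zero, h4, Nat.cast_one, Nat.cast_zero] at h1 h2 h3
  rw [← mc_one, h4] at h3
  have h5 := eval_add_neg hP 1
  rw [← h1, ← h2, ← h3] at h5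
  have h6 : (Curv2.euler k X L : ℚ) + Curv2.euler k X N = 2 * Curv2.euler k X (Coh.structureModule X) := h5
  have h7 : Curv2.euler k X L + Curv2.euler k X N = 2 * Curv2.euler k X (Coh.structureModule X) := by
    exact_mod_cast h6
  omega

end Euler

section Twist

variable {k : Type u} [Field k] {X : Scheme.{u}} [X.Over (Spec (CommRingCat.of k))] {w : X.Modules}
  {t : HV X w 1 →ₗ[k] k}

/-- `Hom(N, w) = Γ(w ⊗ L)` for `N ⊗ L ≅ O`. -/
noncomputable def homSec {N L : X.Modules} (w : X.Modules) (e : CohB1.tensorMod N L ≅ Coh.structureModule X) :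
    (N ⟶ w) →+ Γ((DCoh.tensorRightMod L).obj w, ⊤) where
  toFun φ := sec (e.inv ≫ (DCoh.tensorRightMod L).map φ) ⊤
  map_zero' := by
    rw [Functor.map_zero, comp_zero]
    rfl
  map_add' φ ψ := by
    rw [Functor.map_add, Preadditive.comp_add]
    rfl

theorem homSec_bijective {N L : X.Modules} (w : X.Modules)
    (e : CohB1.tensorMod N L ≅ Coh.structureModule X) : Function.Bijective (homSec w e) := by
  have := Flat2E.FormalLift418.full_tw e
  have := Flat2E.FormalLift418.faithful_tw e
  constructor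
  · intro φ ψ h
    have h1 : e.inv ≫ (DCoh.tensorRightMod L).map φ = e.inv ≫ (DCoh.tensorRightMod L).map ψ := hom_ext_sec h
    exact (DCoh.tensorRightMod L).map_injective ((cancel_epi e.inv).1 h1)
  · intro m
    obtain ⟨φ, hφ⟩ := (DCoh.tensorRightMod L).map_surjective
      (e.hom ≫ homOf m : (DCoh.tensorRightMod L).obj N ⟶ (DCoh.tensorRightMod L).obj w)
    refine ⟨φ, ?_⟩
    change sec (e.inv ≫ (DCoh.tensorRightMod L).map φ) ⊤ = m
    rw [hφ, Iso.inv_hom_id_assoc, sec_homOf, res_refl]

theorem homSec_smul {N L : X.Modules} (w : X.Modules) (e : CohB1.tensorMod N L ≅ Coh.structureModule X)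
    (c : k) (φ : N ⟶ w) :
    homSec w e (Formal.smulMod k N c ≫ φ) = HV.glob k X c • homSec w e φ := by
  change sec (e.inv ≫ (DCoh.tensorRightMod L).map (Formal.smulMod k N c ≫ φ)) ⊤ = _
  rw [Functor.map_comp, CohqB.SerLocal.tensorRightMod_map_smulMod, FormalB.ModPow.smulMod_naturality,
    ← Category.assoc, sec_comp, HV.smulMod_app, HV.globOn_top]
  rfl

/-- `Hom(N, w) = H^0(w ⊗ L)`, as a `k`-linear duality with `H^1(N)`. -/
noncomputable def dualEquiv (h : IsDual w t) {N L : X.Modules} (hN : Coh.IsQCoh N)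
    (e : CohB1.tensorMod N L ≅ Coh.structureModule X) :
    Module.Dual k (HV X N 1) ≃ₗ[k] HV X ((DCoh.tensorRightMod L).obj w) 0 :=
  let T : (N ⟶ w) ≃+ HV X ((DCoh.tensorRightMod L).obj w) 0 :=
    (AddEquiv.ofBijective (homSec w e) (homSec_bijective w e)).trans (HV.zero _).symm
  ((h.homEquiv hN).symm.trans T).toLinearEquiv (by
    intro c ψ
    obtain ⟨φ, rfl⟩ := (h.homEquiv hN).surjective ψ
    change T ((h.homEquiv hN).symm (c • h.homEquiv hN φ)) = c • T ((h.homEquiv hN).symm (h.homEquiv hN φ))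
    rw [← h.homEquiv_smul, AddEquiv.symm_apply_apply, AddEquiv.symm_apply_apply]
    apply (HV.zero _).injective
    rw [HV.zero_smul]
    change HV.zero _ ((HV.zero _).symm (homSec w e (Formal.smulMod k N c ≫ φ))) =
      HV.glob k X c • HV.zero _ ((HV.zero _).symm (homSec w e φ))
    rw [AddEquiv.apply_symm_apply, AddEquiv.apply_symm_apply, homSec_smul])

/-- `h^0(w ⊗ L) = h^1(N)`. -/
theorem h0_twist (h : IsDual w t) {N L : X.Modules} (hN : Coh.IsQCoh N)
    (e : CohB1.tensorMod N L ≅ Coh.structureModule X) :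
    Module.finrank k (HV X (CohB1.tensorMod L w) 0) = Module.finrank k (HV X N 1) := by
  have h1 := (dualEquiv h hN e).finrank_eq
  rw [Subspace.dual_finrank_eq] at h1
  rw [h1]
  exact (hmapEquiv k X (Ega2.Tens.swap L w) 0).finrank_eq

variable [IsProper (X ↘ Spec (CommRingCat.of k))]

theorem h0_lt (hdim : topologicalKrullDim X ≤ 1)
    (h0 : Module.finrank k (Coh.HH X (Coh.structureModule X) 0) = 1) (h : IsDual w t) {L : X.Modules}
    (hL : PicF.IsInvertible L) (hdeg : 2 ≤ Curv2.deg k X L 1) :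
    Module.finrank k (HV X w 0) < Module.finrank k (HV X (CohB1.tensorMod L w) 0) := by
  have hNoe : IsNoetherian X := CurveCoh.noetherianSpace k X
  obtain ⟨N, hN, ⟨e⟩⟩ : ∃ N : X.Modules, PicF.IsInvertible N ∧
      Nonempty (CohB1.tensorMod N L ≅ Coh.structureModule X) := by
    have : IsIso (Grpsch.PicGrp.ev L) := Grpsch.PicGrp.isIso_ev hL
    exact ⟨_, Grpsch.PicGrp.isInvertible_dual hL, ⟨Ega2.Tens.swap _ _ ≪≫ asIso (Grpsch.PicGrp.ev L)⟩⟩
  have hNq : Coh.IsQCoh N := (Ega3B.PicTwist.isCoh_of_isInvertible hN).1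
  have hOq : Coh.IsQCoh (Coh.structureModule X) :=
    (Ega3B.PicTwist.isCoh_of_isInvertible isInvertible_structureModule).1
  have h1 := h0_twist h hNq e
  have h2 := h0_twist h hOq (Ega2.Tens.lunit (Coh.structureModule X))
  rw [show Module.finrank k (HV X (CohB1.tensorMod (Coh.structureModule X) w) 0) = Module.finrank k (HV X w 0) from
    (hmapEquiv k X (Ega2.Tens.lunit w) 0).finrank_eq] at h2
  have h3 := euler_inv k hdim hL hN ⟨e⟩
  have h4 := CurvesB.CurveRR.deg_eq k X hdim L
  have h5 := CurvesB.CurveRR.euler_eq k X hdim N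
  have h6 := CurvesB.CurveRR.euler_eq k X hdim (Coh.structureModule X)
  have h7 : Curv2.deg k X L 1 = Curv2.euler k X L - Curv2.euler k X (Coh.structureModule X) := by
    unfold Curv2.deg
    ring
  rw [(HV.equiv k N 1).finrank_eq] at h1
  rw [(HV.equiv k (Coh.structureModule X) 1).finrank_eq] at h2
  omega

end Twist

end K817.DualRR
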