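import Groth.Agent.Curves.K817.DualGG
import Groth.Agent.Curves.K331.GGCrit
import Groth.Agent.Fga.RegSec
import Groth.Agent.CohqB.QAffGen
import Groth.Agent.CohqB.QC6
import Groth.Agent.CurvesC.HV0
import Groth.Agent.Ega3B.DevQC

/-!
# Twists of the dualizing module of a curve by very ample modules

`gg_of_sections`: `(w, t)` a dual pair with `h^1(w) = 1`, `L` invertible with `h^0(L ⊗ w) > h^0(w)` such that for every
closed point `x` there is a section `s` of `L` vanishing at `x`, all subsets of its zero set being closed. Then `L ⊗ w` is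
globally generated.
-/

set_option autoImplicit false
set_option backward.isDefEq.respectTransparency false
universe u

open CategoryTheory CategoryTheory.Limits AlgebraicGeometry Opposite TopologicalSpace

namespace K817.DualVA

open Groth.Agent Groth.Agent.CurvesC Groth.Agent.Fga.RegSec Groth.Agent.Fdesc Groth.Agent.Fdesc.LocGen
open Groth.Agent.CohqB.DevSupport Groth.Agent.CycB.StalkExact

section Supp

variable {X : Scheme.{u}}

/-- Sections vanish off the support. -/
theorem sec_eq_zero {M : X.Modules} {Z : Set X} (h : CohB1.support M ⊆ Z) (W : X.Opens)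
    (hW : Disjoint (W : Set X) Z) (s : Γ(M, W)) : s = 0 := by
  refine TopCat.Presheaf.section_ext ⟨M.presheaf, M.isSheaf⟩ W s 0 fun y hy => ?_
  have hy2 : y ∉ CohB1.support M := fun h' => Set.disjoint_left.1 hW hy (h h')
  have : Subsingleton (M.presheaf.stalk y) := (not_mem_support_iff M y).1 hy2
  exact Subsingleton.elim _ _

/-- A module with "finite" nonempty support has a nonzero global section. -/
theorem exists_global {Q : X.Modules} {Z : Set X} (hZ : ∀ T : Set X, T ⊆ Z → IsClosed T)
    (hQ : CohB1.support Q ⊆ Z) {x : X} (hx : x ∈ CohB1.support Q) : ∃ c : Γ(Q, ⊤), c ≠ 0 := by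
  have h1 : ¬ Subsingleton (Q.presheaf.stalk x) := fun h => (not_mem_support_iff Q x).2 h hx
  rw [not_subsingleton_iff_nontrivial] at h1
  obtain ⟨m, hm⟩ := exists_ne (0 : Q.presheaf.stalk x)
  obtain ⟨V, hxV, τ, rfl⟩ := TopCat.Presheaf.exists_germ_eq Q.presheaf m
  let C : Set X := Z \ {x}
  have hC : IsClosed C := hZ _ Set.sdiff_subset
  let V' : X.Opens := V ⊓ ⟨Cᶜ, hC.isOpen_compl⟩
  have hxV' : x ∈ V' := ⟨hxV, fun h => h.2 rfl⟩
  obtain ⟨c, hc, -⟩ := DualInvSec.exists_extension Q (V := V') (Z := {x})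
    (hZ _ (Set.singleton_subset_iff.2 (hQ hx))) (Set.singleton_subset_iff.2 hxV')
    (CohqB.QC2.res Q (inf_le_left : V' ≤ V) τ) (by
      intro W hWV hdis
      refine sec_eq_zero hQ W ?_ _
      rw [Set.disjoint_left]
      intro z hzW hzZ
      have h2 : z ∉ C := (hWV hzW).2
      have h3 : z = x := by
        by_contra h3
        exact h2 ⟨hzZ, h3⟩
      exact Set.disjoint_left.1 hdis hzW h3)
  refine ⟨c, ?_⟩
  rintro rfl
  apply hm
  have h2 : Q.presheaf.germ V' x hxV' (CohqB.QC2.res Q (inf_le_left : V' ≤ V) τ) = Q.presheaf.germ V x hxV τ :=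
    TopCat.Presheaf.germ_res_apply _ _ _ _ _
  rw [← h2, ← hc, map_zero, map_zero]

/-- The support of a tensor product. -/
theorem support_tensorMod_subset (M N : X.Modules) : CohB1.support (CohB1.tensorMod M N) ⊆ CohB1.support M := by
  intro x hx
  by_contra h
  rw [not_mem_support_iff] at h
  apply hx
  let e : (CohB1.tensorMod M N).presheaf.stalk x ≃
      TensorProduct (X.presheaf.stalk x) (M.presheaf.stalk x) (N.presheaf.stalk x) :=
    (Groth.Agent.Dcoh.Stalk.tensorStalkIso M N x).toLinearEquiv.toEquiv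
  have h1 : Subsingleton (TensorProduct (X.presheaf.stalk x) (M.presheaf.stalk x) (N.presheaf.stalk x)) := by
    refine subsingleton_of_forall_eq 0 fun z => ?_
    induction z using TensorProduct.induction_on with
    | zero => rfl
    | tmul m n => rw [Subsingleton.elim m 0, TensorProduct.zero_tmul]
    | add a b ha hb => rw [ha, hb, add_zero]
  exact e.subsingleton

theorem not_mem_support_of_isIso {M N : X.Modules} (φ : M ⟶ N) {x : X} (h : IsIso ((stalkF X x).map φ)) :
    x ∉ CohB1.support (cokernel φ) := not_mem_support_cokernel φ inferInstance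

end Supp

section Germ

variable {X : Scheme.{u}}

/-- Multiplication by a section vanishing at `x` has values in `m_x F_x`. -/
theorem stalk_mulS_mem {L : X.Modules} (hL : PicF.IsInvertible L) (s : Coh.structureModule X ⟶ L) (w : X.Modules)
    {x : X} (hx : x ∉ CohB1.genLocus L s) (m : w.presheaf.stalk x) :
    stalkLin (mulS s w) x m ∈ (IsLocalRing.maximalIdeal (X.presheaf.stalk x) • ⊤ :
      Submodule (X.presheaf.stalk x) ((CohB1.tensorMod L w).presheaf.stalk x)) := by
  obtain ⟨U, hxU, e, a, he, ha, -, hmax⟩ := exists_gen_of_not_mem s hL hx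
  obtain ⟨V, hxV, f, rfl⟩ := TopCat.Presheaf.exists_germ_eq w.presheaf m
  have h1 : w.presheaf.germ V x hxV f = w.presheaf.germ (V ⊓ U) x ⟨hxV, hxU⟩ (res w inf_le_left f) :=
    (germ_res' w inf_le_left ⟨hxV, hxU⟩ f).symm
  rw [h1, stalkLin_germ, mulS_app, ← res_sec s (inf_le_right : V ⊓ U ≤ U), ha, res_smul, LocGen.smul_tmul,
    Fdesc.QCohStalk.germ_smul']
  refine Submodule.smul_mem_smul ?_ trivial
  have h2 : X.presheaf.germ (V ⊓ U) x ⟨hxV, hxU⟩ (ores (inf_le_right : V ⊓ U ≤ U) a) = X.presheaf.germ U x hxU a :=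
    TopCat.Presheaf.germ_res_apply _ _ _ _ _
  rw [← h2] at hmax
  exact hmax

theorem stalkLin_add {M N : X.Modules} (φ ψ : M ⟶ N) (x : X) (m : M.presheaf.stalk x) :
    stalkLin (φ + ψ) x m = stalkLin φ x m + stalkLin ψ x m := by
  obtain ⟨V, hxV, f, rfl⟩ := TopCat.Presheaf.exists_germ_eq M.presheaf m
  rw [stalkLin_germ, stalkLin_germ, stalkLin_germ, ← map_add]
  rfl

theorem stalkLin_zero {M N : X.Modules} (x : X) (m : M.presheaf.stalk x) :
    stalkLin (0 : M ⟶ N) x m = 0 := by
  obtain ⟨V, hxV, f, rfl⟩ := TopCat.Presheaf.exists_germ_eq M.presheaf m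
  rw [stalkLin_germ]
  exact map_zero _

/-- If the germ of `biprod.desc j p` is surjective at `x` with `j` valued in `m_x F_x`, then `coker p` is zero at `x`. -/
theorem not_mem_support_of_surj {w P F : X.Modules} (j : w ⟶ F) (p : P ⟶ F) (hF : Coh.IsCoh F) {x : X}
    (hj : ∀ m, stalkLin j x m ∈ (IsLocalRing.maximalIdeal (X.presheaf.stalk x) • ⊤ :
      Submodule (X.presheaf.stalk x) (F.presheaf.stalk x)))
    (hs : Function.Surjective (stalkLin (biprod.desc j p) x)) : x ∉ CohB1.support (cokernel p) := by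
  have hFT : CohB1.IsFT (cokernel p) := CohqB.LocalQC.isFT_of_epi (cokernel.π p) hF.2
  have hfin : Module.Finite (X.presheaf.stalk x) ((cokernel p).presheaf.stalk x) :=
    Ega1.FTStalkFin.stalk_finite _ hFT x
  have hπ : Function.Surjective (stalkLin (cokernel.π p) x) := stalkLin_surjective _ _
  rw [not_mem_support_iff]
  have hbot : (⊤ : Submodule (X.presheaf.stalk x) ((cokernel p).presheaf.stalk x)) = ⊥ := by
    apply Submodule.eq_bot_of_le_smul_of_le_jacobson_bot (IsLocalRing.maximalIdeal (X.presheaf.stalk x)) _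
      Module.Finite.fg_top
    · intro c _
      obtain ⟨f, rfl⟩ := hπ c
      obtain ⟨m, rfl⟩ := hs f
      have h1 : stalkLin (biprod.desc j p) x m =
          stalkLin j x (stalkLin biprod.fst x m) + stalkLin p x (stalkLin biprod.snd x m) := by
        have h2 : (biprod.desc j p : w ⊞ P ⟶ F) = biprod.fst ≫ j + biprod.snd ≫ p := biprod.desc_eq
        rw [h2, stalkLin_add, stalkLin_comp, stalkLin_comp]
        rfl
      have h3 : stalkLin (cokernel.π p) x (stalkLin p x (stalkLin biprod.snd x m)) = 0 := by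
        rw [← LinearMap.comp_apply, ← stalkLin_comp, cokernel.condition, stalkLin_zero]
      rw [h1, map_add, h3, add_zero]
      have h4 : (IsLocalRing.maximalIdeal (X.presheaf.stalk x) • ⊤ :
          Submodule (X.presheaf.stalk x) (F.presheaf.stalk x)).map (stalkLin (cokernel.π p) x) ≤
          IsLocalRing.maximalIdeal (X.presheaf.stalk x) • ⊤ := by
        rw [Submodule.map_smul'']
        exact Submodule.smul_mono le_rfl le_top
      exact h4 (Submodule.mem_map_of_mem (hj _))
    · exact IsLocalRing.maximalIdeal_le_jacobson _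
  exact (Submodule.subsingleton_iff (X.presheaf.stalk x)).mp (subsingleton_of_bot_eq_top hbot.symm)

end Germ

section Main

variable {k : Type u} [Field k] {X : Scheme.{u}} [X.Over (Spec (CommRingCat.of k))] {w : X.Modules}
  {t : HV X w 1 →ₗ[k] k}

/-- A module of "finite" support has no nonzero maps to a twist of `w`. -/
theorem eq_zero_of_support (h : IsDual w t) (hw : Coh.IsQCoh w) {L : X.Modules} (hL : PicF.IsInvertible L)
    {K : X.Modules} (hK : Coh.IsQCoh K) {Z : Set X} (hZ : ∀ T : Set X, T ⊆ Z → IsClosed T)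
    (hKZ : CohB1.support K ⊆ Z) (φ : K ⟶ CohB1.tensorMod L w) : φ = 0 := by
  obtain ⟨N, hN, ⟨e⟩⟩ : ∃ N : X.Modules, PicF.IsInvertible N ∧
      Nonempty (CohB1.tensorMod L N ≅ Coh.structureModule X) := by
    have : IsIso (Grpsch.PicGrp.ev L) := Grpsch.PicGrp.isIso_ev hL
    exact ⟨_, Grpsch.PicGrp.isInvertible_dual hL, ⟨asIso (Grpsch.PicGrp.ev L)⟩⟩
  have := Flat2E.FormalLift418.faithful_tw e
  let F := DCoh.tensorRightMod N
  let i : F.obj (CohB1.tensorMod L w) ≅ w :=
    F.mapIso (Ega2.Tens.swap L w) ≪≫ Ega2.Tens.assoc w L N ≪≫ Ega2.Tens.mapTIso (Iso.refl w) e ≪≫ Ega2.Tens.runit w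
  have hsupp : CohB1.support (F.obj K) ⊆ Z := (support_tensorMod_subset K N).trans hKZ
  have h1 : F.map φ ≫ i.hom = 0 :=
    DualInvSec.eq_zero_of_image h hw (Ega2.TensGen.isQCoh_tensor hK hN) _ Z hZ (fun W hW s => by
      rw [sec_eq_zero hsupp W hW s, map_zero])
  apply F.map_injective
  rw [F.map_zero, ← cancel_mono i.hom, h1, zero_comp]

/-- **Global generation of twists of the dualizing module.** -/
theorem gg_of_sections [IsNoetherian X] (h : IsDual w t) (hw : Coh.IsCoh w)
    (h1 : Module.finrank k (HV X w 1) = 1) {L : X.Modules} (hL : PicF.IsInvertible L)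
    [Module.Finite k (HV X w 0)]
    (hlt : Module.finrank k (HV X w 0) < Module.finrank k (HV X (CohB1.tensorMod L w) 0))
    (hsec : ∀ x : X, IsClosed ({x} : Set X) → ∃ s : Coh.structureModule X ⟶ L, x ∉ CohB1.genLocus L s ∧
      ∀ T : Set X, T ⊆ ((CohB1.genLocus L s : X.Opens) : Set X)ᶜ → IsClosed T) :
    Curv2.IsGloballyGenerated (CohB1.tensorMod L w) := by
  by_contra hgg
  have hF : Coh.IsCoh (CohB1.tensorMod L w) := by
    have h2 := Ega2.GlobGenCrit.isCoh_tensor hw hL
    exact CohqB.LocalQC.isCoh_of_iso (Ega2.Tens.swap w L) h2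
  let I : Type u := Γ(CohB1.tensorMod L w, ⊤)
  let P : X.Modules := SheafOfModules.free I
  let p : P ⟶ CohB1.tensorMod L w :=
    (SheafOfModules.freeHomEquiv _).symm fun t => Groth.Agent.VarietyA.GlobGen.sectionsOf t
  have hglob : ∀ c : Γ(CohB1.tensorMod L w, ⊤), ∃ m : Γ(P, ⊤), p.app ⊤ m = c := by
    intro c
    have h1 : SheafOfModules.sectionsMap p (SheafOfModules.freeSection c) =
        Groth.Agent.VarietyA.GlobGen.sectionsOf c :=
      SheafOfModules.sectionsMap_freeHomEquiv_symm_freeSection _ _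
    have h2 : p.app ⊤ ((SheafOfModules.freeSection (R := X.ringCatSheaf) c).1 (op ⊤)) = c := by
      have h3 := congrArg (fun s : SheafOfModules.sections (CohB1.tensorMod L w) => s.1 (op ⊤)) h1
      refine (h3.trans ?_ : _)
      change (CohB1.tensorMod L w).presheaf.map (𝟙 _) c = c
      rw [CategoryTheory.Functor.map_id]
      rfl
    exact ⟨_, h2⟩
  have hne : (CohB1.support (cokernel p)).Nonempty := by
    by_contra hem
    apply hgg
    refine ⟨I, p, ?_⟩
    have h2 : IsZero (cokernel p) := isZero_of_support_eq_empty (Set.not_nonempty_iff_eq_empty.1 hem)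
    exact Preadditive.epi_of_isZero_cokernel p h2
  have hFT : CohB1.IsFT (cokernel p) :=
    Groth.Agent.CohqB.LocalQC.isFT_of_epi (cokernel.π p) hF.2
  obtain ⟨x, hx, hxc⟩ := (Groth.Agent.VarietyA.GlobGen.isClosed_support _ hFT).exists_closed_singleton hne
  obtain ⟨s, hxs, hZ⟩ := hsec x hxc
  have hP : Coh.IsQCoh P := CohqB.QAffGen.isQCoh_free X I
  let Z : Set X := ((CohB1.genLocus L s : X.Opens) : Set X)ᶜ
  let j : w ⟶ CohB1.tensorMod L w := mulS s w
  have hjiso : ∀ y : X, y ∉ Z → IsIso ((stalkF X y).map j) := fun y hy =>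
    isIso_stalk_mulS s w (not_not.1 hy)
  -- `j` is mono
  have hjm : Mono j := by
    have h2 : kernel.ι j = 0 := by
      refine DualInvSec.eq_zero_of_image h hw.1
        (PerfA.QCohSerre.isQCoh_kernel _ hw.1 hF.1) _ Z hZ (fun W hW m => ?_)
      have h3 : CohB1.support (kernel j) ⊆ Z := fun y hy => by
        by_contra hyZ
        exact not_mem_support_kernel j (hjiso y hyZ) hy
      rw [sec_eq_zero h3 W hW m, map_zero]
    exact Preadditive.mono_of_kernel_zero h2
  let a : w ⊞ P ⟶ CohB1.tensorMod L w := biprod.desc j p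
  let G := Abelian.image a
  let g : G ⟶ CohB1.tensorMod L w := Abelian.image.ι a
  let e : w ⊞ P ⟶ G := Abelian.factorThruImage a
  have heg : e ≫ g = a := Abelian.image.fac a
  have hGq : Coh.IsQCoh G := CohqB.QC6.isQCoh_image a (Ega3B.DevQC.isQCoh_biprod hw.1 hP) hF.1
  let j' : w ⟶ G := biprod.inl ≫ e
  have hj' : j' ≫ g = j := by
    rw [Category.assoc, heg]
    exact biprod.inl_desc _ _
  have hp' : (biprod.inr ≫ e) ≫ g = p := by
    rw [Category.assoc, heg]
    exact biprod.inr_desc _ _
  have hj'm : Mono j' := mono_of_mono_fac hj'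
  have hgiso : ∀ y : X, y ∉ Z → IsIso ((stalkF X y).map g) := fun y hy => by
    have h2 := hjiso y hy
    have h3 : (stalkF X y).map j' ≫ (stalkF X y).map g = (stalkF X y).map j := by
      rw [← Functor.map_comp, hj']
    have h4 : Mono ((stalkF X y).map g) := inferInstance
    have h5 : Epi ((stalkF X y).map g) := by
      rw [← h3] at h2
      exact epi_of_epi ((stalkF X y).map j') _
    exact isIso_of_mono_of_epi _
  have hj'iso : ∀ y : X, y ∉ Z → IsIso ((stalkF X y).map j') := fun y hy => by
    have h2 := hjiso y hy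
    have h3 : (stalkF X y).map j' ≫ (stalkF X y).map g = (stalkF X y).map j := by
      rw [← Functor.map_comp, hj']
    have h4 := hgiso y hy
    exact IsIso.of_isIso_fac_right h3
  -- `H^0(G) → H^0(F)` is onto
  have hg0 : Function.Surjective (HV.map k g 0) := by
    intro c
    obtain ⟨m, hm⟩ := hglob (HV.zero _ c)
    refine ⟨(HV.zero G).symm ((biprod.inr ≫ e : P ⟶ G).app ⊤ m), (HV.zero _).injective ?_⟩
    rw [HV.zero_map, AddEquiv.apply_symm_apply, ← hm]
    have h2 := congrArg (fun φ : P ⟶ CohB1.tensorMod L w => φ.app ⊤ m) hp'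
    exact h2
  -- `H^1(G) ≠ 0`
  have hG1 : Nontrivial (HV X G 1) := by
    let S : ShortComplex X.Modules := ShortComplex.mk g (cokernel.π g) (cokernel.condition g)
    have hS : S.ShortExact :=
      { exact := ShortComplex.exact_cokernel g
        mono_f := inferInstanceAs (Mono g)
        epi_g := inferInstanceAs (Epi (cokernel.π g)) }
    have hQ : CohB1.support (cokernel g) ⊆ Z := fun y hy => by
      by_contra hyZ
      have := hgiso y hyZ
      exact not_mem_support_cokernel g inferInstance hy
    have hxQ : x ∈ CohB1.support (cokernel g) := by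
      by_contra hxQ
      have h2 := epi_of_not_mem_support_cokernel g hxQ
      have h3 : Epi ((stalkF X x).map a) := by
        rw [← heg, Functor.map_comp]
        exact epi_comp _ _
      refine not_mem_support_of_surj j p hF (x := x) (fun m => stalk_mulS_mem hL s w hxs m) ?_ hx
      exact (AddCommGrpCat.epi_iff_surjective _).mp h3
    obtain ⟨c, hc⟩ := exists_global hZ hQ hxQ
    let c' : HV X S.X₃ 0 := (HV.zero (cokernel g)).symm c
    have hc' : c' ≠ 0 := fun h0 => hc (by
      have h2 : HV.zero (cokernel g) c' = c := AddEquiv.apply_symm_apply _ _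
      rw [← h2, h0, map_zero])
    refine ⟨⟨HV.δ k hS 0 c', 0, fun h0 => hc' ?_⟩⟩
    obtain ⟨y, hy⟩ := HV.exact₃ k hS 0 c' h0
    obtain ⟨z, hz⟩ := hg0 y
    rw [← hy, ← hz]
    exact HV.map_map_zero k (S := S) 0 z
  -- `H^1(w) → H^1(G)` is bijective
  have hj1 : Function.Surjective (HV.map k j' 1) := by
    let S : ShortComplex X.Modules := ShortComplex.mk j' (cokernel.π j') (cokernel.condition j')
    have hS : S.ShortExact :=
      { exact := ShortComplex.exact_cokernel j'
        mono_f := inferInstanceAs (Mono j')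
        epi_g := inferInstanceAs (Epi (cokernel.π j')) }
    have hQ : CohB1.support (cokernel j') ⊆ Z := fun y hy => by
      by_contra hyZ
      have := hj'iso y hyZ
      exact not_mem_support_cokernel j' inferInstance hy
    have h2 : Subsingleton (HV X S.X₃ 1) :=
      DualInvSec.subsingleton_HV _ Z hZ (fun U hU m => sec_eq_zero hQ U hU m)
    intro c
    exact HV.exact₂ k hS 1 c (Subsingleton.elim _ _)
  have hwfin : Module.Finite k (HV X w 1) := Module.finite_of_finrank_eq_succ h1
  have hj1i : Function.Injective (HV.map k j' 1) := by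
    have hGfin : Module.Finite k (HV X G 1) := Module.Finite.of_surjective _ hj1
    have h2 : Module.finrank k (HV X G 1) ≤ 1 := (LinearMap.finrank_le_finrank_of_surjective hj1).trans h1.le
    have h3 : 0 < Module.finrank k (HV X G 1) := Module.finrank_pos
    exact (LinearMap.injective_iff_surjective_of_finrank_eq_finrank (by omega)).2 hj1
  let E : HV X w 1 ≃ₗ[k] HV X G 1 := LinearEquiv.ofBijective (HV.map k j' 1) ⟨hj1i, hj1⟩
  obtain ⟨r, hr, -⟩ := h G hGq (t ∘ₗ E.symm.toLinearMap)
  have hjr : j' ≫ r = 𝟙 w := (h.bijective hw.1).1 (by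
    dsimp only
    rw [HV.map_comp, ← LinearMap.comp_assoc, hr, HV.map_id, LinearMap.comp_id, LinearMap.comp_assoc]
    have h2 : E.symm.toLinearMap ∘ₗ HV.map k j' 1 = LinearMap.id := by
      ext c
      exact E.symm_apply_apply c
    rw [h2, LinearMap.comp_id])
  have hrm : Mono r := by
    have h3 : CohB1.support (kernel r) ⊆ Z := fun y hy => by
      by_contra hyZ
      have h4 := hj'iso y hyZ
      have h5 : (stalkF X y).map j' ≫ (stalkF X y).map r = 𝟙 _ := by
        rw [← Functor.map_comp, hjr]
        exact CategoryTheory.Functor.map_id _ _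
      have h6 : IsIso ((stalkF X y).map r) := by
        have h7 : IsIso ((stalkF X y).map j' ≫ (stalkF X y).map r) := by
          rw [h5]
          infer_instance
        exact IsIso.of_isIso_comp_left ((stalkF X y).map j') ((stalkF X y).map r)
      exact not_mem_support_kernel r h6 hy
    have h2 : kernel.ι r ≫ g = 0 :=
      eq_zero_of_support h hw.1 hL (PerfA.QCohSerre.isQCoh_kernel _ hGq hw.1) hZ h3 _
    refine Preadditive.mono_of_kernel_zero ?_
    rw [← cancel_mono g, h2, zero_comp]
  have hre : IsSplitEpi r := IsSplitEpi.mk' ⟨j', hjr⟩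
  have hri : IsIso r := isIso_of_mono_of_isSplitEpi r
  have hj'i : IsIso j' := by
    have h2 : j' = inv r := by rw [← cancel_mono r, hjr, IsIso.inv_hom_id]
    rw [h2]
    infer_instance
  have hj0 : Function.Surjective (HV.map k j 0) := by
    intro c
    obtain ⟨y, hy⟩ := hg0 c
    refine ⟨HV.map k (inv j') 0 y, ?_⟩
    rw [← hj', HV.map_comp_apply, ← HV.map_comp_apply k (inv j') j', IsIso.inv_hom_id, HV.map_id]
    exact hy
  exact absurd (LinearMap.finrank_le_finrank_of_surjective hj0) (not_le.2 hlt)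

end Main

end K817.DualVA
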