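import Groth.Agent.CurvesC.Dim1Top
import Groth.Agent.CurvesB.SepPoints
import Groth.Agent.Dix.ExcP1
import Groth.Agent.CohqB.ProjLift
import Groth.Agent.Krr.H484.PnHom
import Groth.Agent.Sga1.Transit
import Mathlib.GroupTheory.CosetCover

/-!
# Sections of very ample modules vanishing at a point and not at finitely many others

* `isClosed_of_subset`: in dimension `≤ 1`, all subsets of a closed set containing no irreducible component are closed.
* `pt_ext`: points of projective space with the same coordinates are equal.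
* `exists_section`: `K` algebraically closed, `φ : Y ⟶ P^n` injective on `K`-points, `L ≅ φ^* O(1)`, `x` a closed point:
  some section of `L` vanishes at `x` and its zero set has only closed subsets (`dim Y ≤ 1`, all components of dimension
  one).
-/

set_option autoImplicit false
universe u

open CategoryTheory CategoryTheory.Limits AlgebraicGeometry Opposite TopologicalSpace

namespace K817.SepSec

section Top

theorem isClosed_of_subset {X : Type*} [TopologicalSpace X] [T0Space X] [QuasiSober X] [NoetherianSpace X]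
    (hd : topologicalKrullDim X ≤ 1) {Z : Set X} (hZ : IsClosed Z)
    (hne : ∀ C ∈ irreducibleComponents X, ¬ C ⊆ Z) {T : Set X} (hT : T ⊆ Z) : IsClosed T := by
  have hfin : (irreducibleComponents X).Finite := NoetherianSpace.finite_irreducibleComponents
  have hTeq : T = ⋃ C ∈ irreducibleComponents X, T ∩ C := by
    ext t
    simp only [Set.mem_iUnion, Set.mem_inter_iff, exists_prop]
    constructor
    · intro ht
      exact ⟨irreducibleComponent t, irreducibleComponent_mem_irreducibleComponents t, ht, mem_irreducibleComponent⟩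
    · rintro ⟨C, -, ht, -⟩
      exact ht
  rw [hTeq]
  refine hfin.isClosed_biUnion fun C hC => ?_
  have hCc : IsClosed C := isClosed_of_mem_irreducibleComponents C hC
  have hirr : IrreducibleSpace C := by
    have := hC.1
    exact Subtype.irreducibleSpace this
  have hsob : QuasiSober C := hCc.isClosedEmbedding_subtypeVal.quasiSober
  have h1 : IsClosed ((↑) ⁻¹' T : Set C) := by
    refine Groth.Agent.CurvesC.Dim1Top.isClosed_of_subset ((topologicalKrullDim_subspace_le X C).trans hd)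
      (Z := ((↑) ⁻¹' Z : Set C)) (hZ.preimage continuous_subtype_val) ?_ (Set.preimage_mono hT)
    intro h2
    apply hne C hC
    intro c hc
    have h3 : (⟨c, hc⟩ : C) ∈ ((↑) ⁻¹' Z : Set C) := h2 ▸ Set.mem_univ _
    exact h3
  have h2 := hCc.isClosedEmbedding_subtypeVal.isClosedMap _ h1
  rwa [Set.image_preimage_eq_inter_range, Subtype.range_coe] at h2

end Top

section Pt

open Groth.Agent.CurvesC.ProjMap Groth.Agent.CurvesC.ProjSpaceBasic

variable {n : ℕ} {k : Type u} [Field k]

/-- Points of the projective space with the same coordinates are equal. -/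
theorem pt_ext {T : Scheme.{u}} [IsAffine T] (a b : T ⟶ CohB1.ProjSpace n k)
    (hab : a ≫ CohB1.ProjSpace.toSpec n k = b ≫ CohB1.ProjSpace.toSpec n k) (i : Fin (n + 1))
    (ha : (⊤ : T.Opens) ≤ a ⁻¹ᵁ Dp n k i) (hb : (⊤ : T.Opens) ≤ b ⁻¹ᵁ Dp n k i)
    (h : ∀ j, a.appLE (Dp n k i) ⊤ ha (ratio n k i j) = b.appLE (Dp n k i) ⊤ hb (ratio n k i j)) : a = b := by
  refine Groth.Agent.Sga1.Transit.hom_eq_of_appLE_eq a b (isAffineOpen_Dp n k i) ha hb ?_
  ext c
  obtain ⟨q, rfl⟩ := Groth.Agent.Dix.ExcP1.exists_eval₂' i c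
  have key : ∀ (a : T ⟶ CohB1.ProjSpace n k) (ha : (⊤ : T.Opens) ≤ a ⁻¹ᵁ Dp n k i),
      (a.appLE (Dp n k i) ⊤ ha).hom.comp (struct (CohB1.ProjSpace.toSpec n k) (Dp n k i)) =
      struct (a ≫ CohB1.ProjSpace.toSpec n k) ⊤ := by
    intro a ha
    ext r
    change a.appLE (Dp n k i) ⊤ ha (struct (CohB1.ProjSpace.toSpec n k) (Dp n k i) r) = _
    rw [Groth.Agent.CohqB.ProjLift.appLE_eq, Groth.Agent.CurvesC.ProjClosed.app_struct, map_struct]
  have e1 := MvPolynomial.hom_eval₂ q (struct (CohB1.ProjSpace.toSpec n k) (Dp n k i))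
    (a.appLE (Dp n k i) ⊤ ha).hom (ratio n k i)
  have e2 := MvPolynomial.hom_eval₂ q (struct (CohB1.ProjSpace.toSpec n k) (Dp n k i))
    (b.appLE (Dp n k i) ⊤ hb).hom (ratio n k i)
  refine e1.trans (Eq.trans ?_ e2.symm)
  rw [key a ha, key b hb, hab]
  congr 1
  funext j
  exact h j

end Pt

section Van

open Groth.Agent.Fdesc Groth.Agent.Fdesc.LocGen Groth.Agent.CurvesB.SepPoints

variable {Y : Scheme.{u}} {L : Y.Modules}

/-- The section `m` vanishes at `y`. -/
def Van (L : Y.Modules) (y : Y) (m : Γ(L, ⊤)) : Prop := y ∉ CohB1.genLocus L (homOf m)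

theorem van_iff {U : Y.Opens} {e : Γ(L, U)} (he : IsGen e) {y : Y} (hy : y ∈ U) {m : Γ(L, ⊤)} {a : Γ(Y, U)}
    (h : res L le_top m = a • e) :
    Van L y m ↔ Y.presheaf.germ U y hy a ∈ IsLocalRing.maximalIdeal (Y.presheaf.stalk y) := by
  rw [germ_mem_maximalIdeal_iff, ← genLocus_inf_eq (homOf m) he ((sec_homOf m U).trans h)]
  exact ⟨fun h1 h2 => h1 h2.1, fun h1 h2 => h1 ⟨h2, hy⟩⟩

theorem van_add (hL : PicF.IsInvertible L) {y : Y} {m m' : Γ(L, ⊤)} (h : Van L y m) (h' : Van L y m') :
    Van L y (m + m') := by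
  obtain ⟨U, e, hyU, he⟩ := (isInvertible_iff L).mp hL y
  obtain ⟨a, ha⟩ := he.exists_eq (res L le_top m)
  obtain ⟨a', ha'⟩ := he.exists_eq (res L le_top m')
  have h1 : res L (le_top : U ≤ ⊤) (m + m') = (a + a') • e := by rw [map_add, ha, ha', add_smul]
  rw [van_iff he hyU h1, map_add]
  exact Ideal.add_mem _ ((van_iff he hyU ha).1 h) ((van_iff he hyU ha').1 h')

theorem van_smul (hL : PicF.IsInvertible L) {y : Y} {m : Γ(L, ⊤)} (r : Γ(Y, ⊤)) (h : Van L y m) :
    Van L y (r • m) := by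
  obtain ⟨U, e, hyU, he⟩ := (isInvertible_iff L).mp hL y
  obtain ⟨a, ha⟩ := he.exists_eq (res L le_top m)
  have h1 : res L (le_top : U ≤ ⊤) (r • m) = (ores le_top r * a) • e := by rw [res_smul, ha, mul_smul]
  rw [van_iff he hyU h1, map_mul]
  exact Ideal.mul_mem_left _ _ ((van_iff he hyU ha).1 h)

theorem van_zero (hL : PicF.IsInvertible L) (y : Y) : Van L y 0 := by
  obtain ⟨U, e, hyU, he⟩ := (isInvertible_iff L).mp hL y
  have h1 : res L (le_top : U ≤ ⊤) 0 = (0 : Γ(Y, U)) • e := by rw [map_zero, zero_smul]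
  rw [van_iff he hyU h1, map_zero]
  exact Ideal.zero_mem _

variable {K : Type u} [Field K] (f : Y ⟶ Spec (CommRingCat.of K)) {ι : Type} [Fintype ι] (s : ι → Γ(L, ⊤))

/-- Linear combinations of sections. -/
noncomputable def comb (c : ι → K) : Γ(L, ⊤) := ∑ j, glb f (c j) • s j

theorem comb_add (c c' : ι → K) : comb f s (c + c') = comb f s c + comb f s c' := by
  simp only [comb, Pi.add_apply, map_add, add_smul, Finset.sum_add_distrib]

theorem comb_smul (a : K) (c : ι → K) : comb f s (a • c) = glb f a • comb f s c := by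
  simp only [comb, Pi.smul_apply, smul_eq_mul, map_mul, mul_smul, Finset.smul_sum]

theorem comb_single [DecidableEq ι] (j : ι) (a : K) : comb f s (Pi.single j a) = glb f a • s j := by
  rw [comb, Finset.sum_eq_single j]
  · rw [Pi.single_eq_same]
  · intro b _ hb
    rw [Pi.single_eq_of_ne hb, map_zero, zero_smul]
  · intro h
    exact absurd (Finset.mem_univ j) h

/-- The linear combinations vanishing at `y`. -/
noncomputable def vanSub (hL : PicF.IsInvertible L) (y : Y) : Submodule K (ι → K) where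
  carrier := {c | Van L y (comb f s c)}
  add_mem' {c c'} h h' := by
    change Van L y (comb f s (c + c'))
    rw [comb_add]
    exact van_add hL h h'
  zero_mem' := by
    change Van L y (comb f s 0)
    have h1 : comb f s (0 : ι → K) = 0 := by simp [comb]
    rw [h1]
    exact van_zero hL y
  smul_mem' a c h := by
    change Van L y (comb f s (a • c))
    rw [comb_smul]
    exact van_smul hL _ h

theorem mem_vanSub (hL : PicF.IsInvertible L) (y : Y) (c : ι → K) :
    c ∈ vanSub f s hL y ↔ Van L y (comb f s c) := Iff.rfl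

end Van

section Sep

open Groth.Agent.Fdesc Groth.Agent.Fdesc.LocGen Groth.Agent.CurvesB.SepPoints Groth.Agent.Krr.H484.PnHom
open Groth.Agent.CurvesC.ProjSpaceBasic

variable {Y : Scheme.{u}} {L : Y.Modules} {K : Type u} [Field K] [IsAlgClosed K]
  (f : Y ⟶ Spec (CommRingCat.of K)) [LocallyOfFiniteType f]

/-- The value of a function at a closed point. -/
theorem appLE_pt {z : Y} (hz : IsClosed ({z} : Set Y)) {W : Y.Opens} (hzW : z ∈ W)
    (h : (⊤ : (Spec (CommRingCat.of K)).Opens) ≤ (pointOfClosedPoint f z hz) ⁻¹ᵁ W) (g : Γ(Y, W)) (b : K)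
    (hb : Y.presheaf.germ W z hzW (g - ores le_top (glb f b)) ∈ IsLocalRing.maximalIdeal (Y.presheaf.stalk z)) :
    (pointOfClosedPoint f z hz).appLE W ⊤ h g = (Scheme.ΓSpecIso (CommRingCat.of K)).inv b := by
  have h1 : (pointOfClosedPoint f z hz).appLE W ⊤ h (g - ores le_top (glb f b)) = 0 := by
    by_contra hne
    rw [germ_mem_maximalIdeal_iff] at hb
    apply hb
    have h2 : IsUnit ((pointOfClosedPoint f z hz).appLE W ⊤ h (g - ores le_top (glb f b))) := by
      have h3 : IsUnit ((Scheme.ΓSpecIso (CommRingCat.of K)).hom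
          ((pointOfClosedPoint f z hz).appLE W ⊤ h (g - ores le_top (glb f b)))) := by
        rw [isUnit_iff_ne_zero]
        intro h4
        apply hne
        have h5 := congrArg (Scheme.ΓSpecIso (CommRingCat.of K)).inv h4
        rw [← ConcreteCategory.comp_apply, Iso.hom_inv_id, map_zero] at h5
        exact h5
      have h6 := h3.map (Scheme.ΓSpecIso (CommRingCat.of K)).inv.hom
      change IsUnit ((Scheme.ΓSpecIso (CommRingCat.of K)).inv ((Scheme.ΓSpecIso (CommRingCat.of K)).hom
          ((pointOfClosedPoint f z hz).appLE W ⊤ h (g - ores le_top (glb f b))))) at h6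
      rw [← ConcreteCategory.comp_apply, Iso.hom_inv_id] at h6
      exact h6
    have h7 := Scheme.basicOpen_of_isUnit _ h2
    rw [Scheme.basicOpen_appLE, top_inf_eq] at h7
    have h8 : (IsLocalRing.closedPoint K : Spec (CommRingCat.of K)) ∈
        (pointOfClosedPoint f z hz) ⁻¹ᵁ Y.basicOpen (g - ores le_top (glb f b)) := by
      rw [h7]
      trivial
    have h9 : (pointOfClosedPoint f z hz) (IsLocalRing.closedPoint K : Spec (CommRingCat.of K)) ∈
        Y.basicOpen (g - ores le_top (glb f b)) := h8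
    rwa [pointOfClosedPoint_apply] at h9
  rw [map_sub, sub_eq_zero] at h1
  rw [h1]
  have h2 : (pointOfClosedPoint f z hz).appLE W ⊤ h (ores le_top (glb f b)) =
      (pointOfClosedPoint f z hz).appTop (glb f b) := by
    change (Y.presheaf.map _ ≫ (pointOfClosedPoint f z hz).appLE W ⊤ h) (glb f b) = _
    rw [Scheme.Hom.map_appLE]
    have h5 : (pointOfClosedPoint f z hz).appLE ⊤ ⊤ le_top = (pointOfClosedPoint f z hz).appTop :=
      (pointOfClosedPoint f z hz).appLE_eq_app
    exact congr($h5 (glb f b))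
  rw [h2]
  have h3 := congrArg (fun g => g.appTop) (pointOfClosedPoint_comp f z hz)
  have h4 := congr($h3 ((Scheme.ΓSpecIso (CommRingCat.of K)).inv b))
  exact h4

variable {n : ℕ} {k : Type u} [Field k] (φ : Y ⟶ CohB1.ProjSpace n k)
  (e : (Scheme.Modules.pullback φ).obj (Twist.twistProjSpace n k 1) ≅ L)

/-- The sections of `L` given by the coordinates. -/
noncomputable def crd (j : Fin (n + 1)) : Γ(L, ⊤) := e.hom.app ⊤ (pullTop φ (coordSec n k j))

theorem isGen_crd (i : Fin (n + 1)) : IsGen (res L (le_top : φ ⁻¹ᵁ Dp n k i ≤ ⊤) (crd φ e i)) := by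
  have h := isGen_sec_preimage φ e i
  rwa [sec_homOf] at h

theorem res_crd (i j : Fin (n + 1)) : res L (le_top : φ ⁻¹ᵁ Dp n k i ≤ ⊤) (crd φ e j) =
    (φ.app (Dp n k i) (ratio n k i j) : Γ(Y, φ ⁻¹ᵁ Dp n k i)) • res L (le_top : φ ⁻¹ᵁ Dp n k i ≤ ⊤) (crd φ e i) := by
  have h := ratio_smul_sec φ e i j
  rw [sec_homOf, sec_homOf] at h
  exact h.symm

theorem van_crd_iff (i : Fin (n + 1)) (y : Y) : Van L y (crd φ e i) ↔ y ∉ φ ⁻¹ᵁ Dp n k i := by
  unfold Van crd
  rw [genLocus_eq]

variable {f φ e}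

/-- Linear combinations of the coordinates separate closed points. -/
theorem vanSub_not_le (hL : PicF.IsInvertible L) (ρ : Spec (CommRingCat.of K) ⟶ Spec (CommRingCat.of k))
    (hφ : φ ≫ CohB1.ProjSpace.toSpec n k = f ≫ ρ)
    (hinj : ∀ P Q : Spec (CommRingCat.of K) ⟶ Y, P ≫ f = 𝟙 _ → Q ≫ f = 𝟙 _ → P ≫ φ = Q ≫ φ → P = Q)
    {x y : Y} (hx : IsClosed ({x} : Set Y)) (hy : IsClosed ({y} : Set Y)) (hxy : x ≠ y) :
    ¬ vanSub f (crd φ e) hL x ≤ vanSub f (crd φ e) hL y := by
  intro hle
  obtain ⟨i, hi⟩ : ∃ i, φ x ∈ Dp n k i := by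
    have h1 : φ x ∈ ⨆ i, Dp n k i := by rw [iSup_Dp]; trivial
    exact Opens.mem_iSup.1 h1
  have hxW : x ∈ φ ⁻¹ᵁ Dp n k i := hi
  choose a ha using fun j => exists_const_sub_mem f x hx
    (Y.presheaf.germ (φ ⁻¹ᵁ Dp n k i) x hxW (φ.app (Dp n k i) (ratio n k i j)))
  have hres : ∀ j, res L (le_top : φ ⁻¹ᵁ Dp n k i ≤ ⊤)
      (comb f (crd φ e) (Pi.single j 1 - Pi.single i (a j) : Fin (n + 1) → K)) =
      (φ.app (Dp n k i) (ratio n k i j) - ores le_top (glb f (a j)) : Γ(Y, φ ⁻¹ᵁ Dp n k i)) •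
        res L (le_top : φ ⁻¹ᵁ Dp n k i ≤ ⊤) (crd φ e i) := by
    intro j
    rw [sub_eq_add_neg, ← Pi.single_neg, comb_add, comb_single, comb_single, map_one, one_smul, map_add,
      res_crd φ e i j, res_smul, sub_smul, map_neg, map_neg, neg_smul, sub_eq_add_neg]
  have hgerm : ∀ (z : Y) (hz : z ∈ φ ⁻¹ᵁ Dp n k i) (b : K),
      Y.presheaf.germ (φ ⁻¹ᵁ Dp n k i) z hz (ores le_top (glb f b)) = Y.presheaf.germ ⊤ z trivial (glb f b) :=
    fun z hz b => TopCat.Presheaf.germ_res_apply _ _ _ _ _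
  have hvx : ∀ j, (Pi.single j 1 - Pi.single i (a j) : Fin (n + 1) → K) ∈ vanSub f (crd φ e) hL x := by
    intro j
    rw [mem_vanSub, van_iff (isGen_crd φ e i) hxW (hres j), map_sub, hgerm]
    exact ha j
  have hvy := fun j => hle (hvx j)
  have hyW : y ∈ φ ⁻¹ᵁ Dp n k i := by
    by_contra hyW
    have h1 : Van L y (crd φ e i) := (van_crd_iff φ e i y).2 hyW
    have h2 : ∀ j, Van L y (crd φ e j) := by
      intro j
      have h3 : crd φ e j = comb f (crd φ e) (Pi.single j 1 - Pi.single i (a j) : Fin (n + 1) → K) +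
          glb f (a j) • crd φ e i := by
        rw [sub_eq_add_neg, ← Pi.single_neg, comb_add, comb_single, comb_single, map_one, one_smul, map_neg, neg_smul]
        abel
      rw [h3]
      exact van_add hL (hvy j) (van_smul hL _ h1)
    have h4 : φ y ∈ ⨆ i, Dp n k i := by rw [iSup_Dp]; trivial
    obtain ⟨l, hl⟩ := Opens.mem_iSup.1 h4
    exact (van_crd_iff φ e l y).1 (h2 l) hl
  have hb : ∀ j, Y.presheaf.germ (φ ⁻¹ᵁ Dp n k i) y hyW
      (φ.app (Dp n k i) (ratio n k i j) - ores le_top (glb f (a j))) ∈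
        IsLocalRing.maximalIdeal (Y.presheaf.stalk y) := fun j =>
    (van_iff (isGen_crd φ e i) hyW (hres j)).1 ((mem_vanSub f (crd φ e) hL y _).1 (hvy j))
  have hb' : ∀ j, Y.presheaf.germ (φ ⁻¹ᵁ Dp n k i) x hxW
      (φ.app (Dp n k i) (ratio n k i j) - ores le_top (glb f (a j))) ∈
        IsLocalRing.maximalIdeal (Y.presheaf.stalk x) := fun j => by
    rw [map_sub, hgerm]
    exact ha j
  have hdom : ∀ (z : Y) (hz : IsClosed ({z} : Set Y)) (hzW : z ∈ φ ⁻¹ᵁ Dp n k i),
      (⊤ : (Spec (CommRingCat.of K)).Opens) ≤ (pointOfClosedPoint f z hz) ⁻¹ᵁ (φ ⁻¹ᵁ Dp n k i) := by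
    intro z hz hzW p _
    change pointOfClosedPoint f z hz p ∈ φ ⁻¹ᵁ Dp n k i
    rwa [pointOfClosedPoint_apply]
  have hPQ : pointOfClosedPoint f x hx = pointOfClosedPoint f y hy := by
    refine hinj _ _ (pointOfClosedPoint_comp f x hx) (pointOfClosedPoint_comp f y hy) ?_
    refine pt_ext _ _ ?_ i (hdom x hx hxW) (hdom y hy hyW) fun j => ?_
    · rw [Category.assoc, Category.assoc, hφ, pointOfClosedPoint_comp_assoc, pointOfClosedPoint_comp_assoc]
    · have key : ∀ (z : Y) (hz : IsClosed ({z} : Set Y)) (hzW : z ∈ φ ⁻¹ᵁ Dp n k i),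
          (pointOfClosedPoint f z hz ≫ φ).appLE (Dp n k i) ⊤ (hdom z hz hzW) (ratio n k i j) =
          (pointOfClosedPoint f z hz).appLE (φ ⁻¹ᵁ Dp n k i) ⊤ (hdom z hz hzW)
            (φ.app (Dp n k i) (ratio n k i j)) := by
        intro z hz hzW
        have h1 : (pointOfClosedPoint f z hz ≫ φ).appLE (Dp n k i) ⊤ (hdom z hz hzW) =
            φ.app (Dp n k i) ≫ (pointOfClosedPoint f z hz).appLE (φ ⁻¹ᵁ Dp n k i) ⊤ (hdom z hz hzW) := by
          rw [Scheme.Hom.comp_appLE]
        rw [h1]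
        rfl
      rw [key x hx hxW, key y hy hyW, appLE_pt f hx hxW _ _ _ (hb' j), appLE_pt f hy hyW _ _ _ (hb j)]
  apply hxy
  have h1 := congrArg (fun P : Spec (CommRingCat.of K) ⟶ Y => P (IsLocalRing.closedPoint K)) hPQ
  simpa only [pointOfClosedPoint_apply] using h1

/-- A section vanishing at `x` with zero set "finite". -/
theorem exists_section [IsProper f] (hd : topologicalKrullDim Y ≤ 1)
    (hequi : ∀ Z ∈ irreducibleComponents (Y : Type u), topologicalKrullDim Z = 1)
    (hL : PicF.IsInvertible L) (ρ : Spec (CommRingCat.of K) ⟶ Spec (CommRingCat.of k))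
    (hφ : φ ≫ CohB1.ProjSpace.toSpec n k = f ≫ ρ)
    (e : (Scheme.Modules.pullback φ).obj (Twist.twistProjSpace n k 1) ≅ L)
    (hinj : ∀ P Q : Spec (CommRingCat.of K) ⟶ Y, P ≫ f = 𝟙 _ → Q ≫ f = 𝟙 _ → P ≫ φ = Q ≫ φ → P = Q)
    (x : Y) (hx : IsClosed ({x} : Set Y)) : ∃ s : Coh.structureModule Y ⟶ L, x ∉ CohB1.genLocus L s ∧
      ∀ T : Set Y, T ⊆ ((CohB1.genLocus L s : Y.Opens) : Set Y)ᶜ → IsClosed T := by
  have hLN : IsLocallyNoetherian Y := LocallyOfFiniteType.isLocallyNoetherian f
  have hcpt : CompactSpace Y := QuasiCompact.compactSpace_of_compactSpace f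
  have hNoe : IsNoetherian Y := {}
  have hJ : JacobsonSpace Y := LocallyOfFiniteType.jacobsonSpace f
  -- a closed point of each component, different from `x`
  have hpt : ∀ C : irreducibleComponents (Y : Type u), ∃ y : Y, y ∈ C.1 ∧ IsClosed ({y} : Set Y) ∧ x ≠ y := by
    rintro ⟨C, hC⟩
    have hCc : IsClosed C := isClosed_of_mem_irreducibleComponents C hC
    have hne : (C \ {x}).Nonempty := by
      by_contra hem
      rw [Set.not_nonempty_iff_eq_empty, Set.sdiff_eq_empty] at hem
      have h1 := hequi C hC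
      have h2 : C.Subsingleton := Set.subsingleton_singleton.anti hem
      have h3 : Subsingleton C := h2.coe_sort
      have h4 : DiscreteTopology C := inferInstance
      have h5 : Nonempty C := hC.1.nonempty.to_subtype
      have h6 := topologicalKrullDim_zero_of_discreteTopology C
      rw [h1] at h6
      exact absurd h6 (by decide)
    have hlc : IsLocallyClosed (C \ {x}) := by
      rw [Set.sdiff_eq]
      exact hCc.isLocallyClosed.inter hx.isOpen_compl.isLocallyClosed
    obtain ⟨y, hy, hyc⟩ := nonempty_inter_closedPoints hne hlc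
    exact ⟨y, hy.1, hyc, fun h => hy.2 h.symm⟩
  choose y hyC hyc hyx using hpt
  have hfin : Finite (irreducibleComponents (Y : Type u)) :=
    (NoetherianSpace.finite_irreducibleComponents (α := Y)).to_subtype
  have hinf : Infinite K := IsAlgClosed.instInfinite
  have hfint := Fintype.ofFinite (irreducibleComponents (Y : Type u))
  classical
  -- avoid the subspaces vanishing at the `y C`
  let V := vanSub f (crd φ e) hL x
  let p : irreducibleComponents (Y : Type u) → Submodule K V := fun C =>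
    (vanSub f (crd φ e) hL (y C)).comap V.subtype
  have hp : ∀ C, p C ≠ ⊤ := fun C h => by
    refine vanSub_not_le hL ρ hφ hinj hx (hyc C) (hyx C) (e := e) fun c hc => ?_
    have h1 : (⟨c, hc⟩ : V) ∈ p C := by rw [h]; trivial
    exact h1
  have hcov := Subspace.biUnion_ne_univ_of_top_notMem (k := K) (E := V) (s := Finset.univ.image p) (by
    rw [Finset.mem_image]
    rintro ⟨C, -, hC⟩
    exact hp C hC)
  rw [Set.ne_univ_iff_exists_notMem] at hcov
  obtain ⟨c, hc⟩ := hcov
  refine ⟨homOf (comb f (crd φ e) c.1), c.2, fun T hT => ?_⟩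
  refine isClosed_of_subset hd (CohB1.genLocus L (homOf (comb f (crd φ e) c.1))).2.isClosed_compl ?_ hT
  intro C hC hCsub
  have h1 : c ∉ p ⟨C, hC⟩ := fun h => hc (by
    simp only [Set.mem_iUnion]
    exact ⟨p ⟨C, hC⟩, Finset.mem_image_of_mem _ (Finset.mem_univ _), h⟩)
  exact h1 (hCsub (hyC ⟨C, hC⟩))

end Sep

end K817.SepSec
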